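import Groth.Agent.Lib.Helper19.CP.Dense
import Mathlib.RingTheory.Spectrum.Prime.Topology
import Mathlib.RingTheory.Ideal.MinimalPrime.Localization
import Mathlib.Topology.Constructible

set_option autoImplicit false
set_option linter.style.haveILetI false
open Topology Polynomial

namespace Groth.Agent.Lib.Helper19.CP

attribute [local instance] top

section

variable {A : Type*} [CommRing A] [Algebra ℂ A]

/-- The point of the prime spectrum underlying a `ℂ`-point. -/
def kerPt (ψ : A →ₐ[ℂ] ℂ) : PrimeSpectrum A := ⟨RingHom.ker ψ, RingHom.ker_isPrime ψ⟩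

@[simp] lemma kerPt_asIdeal (ψ : A →ₐ[ℂ] ℂ) : (kerPt ψ).asIdeal = RingHom.ker ψ := rfl

lemma eq_of_ker_le (ψ₁ ψ₂ : A →ₐ[ℂ] ℂ) (h : RingHom.ker ψ₁ ≤ RingHom.ker ψ₂) : ψ₁ = ψ₂ := by
  ext a
  have h1 : a - algebraMap ℂ A (ψ₁ a) ∈ RingHom.ker ψ₁ := by
    rw [RingHom.mem_ker, map_sub, AlgHom.commutes]
    simp
  have h2 := h h1
  rw [RingHom.mem_ker, map_sub, AlgHom.commutes, sub_eq_zero] at h2
  simpa using h2.symm

lemma kerPt_injective : Function.Injective (kerPt : (A →ₐ[ℂ] ℂ) → PrimeSpectrum A) := by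
  intro ψ₁ ψ₂ h
  have : RingHom.ker ψ₁ = RingHom.ker ψ₂ := congrArg PrimeSpectrum.asIdeal h
  exact eq_of_ker_le _ _ this.le

/-- Pullback of points along a quotient map. -/
noncomputable def quotMap (p : Ideal A) (ψ : (A ⧸ p) →ₐ[ℂ] ℂ) : A →ₐ[ℂ] ℂ :=
  ψ.comp (Ideal.Quotient.mkₐ ℂ p)

lemma continuous_quotMap (p : Ideal A) : Continuous (quotMap p) :=
  continuous_iff.mpr fun a => continuous_eval (Ideal.Quotient.mk p a)

theorem mem_closure_of_sdiff [Algebra.FiniteType ℂ A] (f : A) (s : Set A)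
    (ψ : A →ₐ[ℂ] ℂ)
    (hψ : kerPt ψ ∈ closure ((PrimeSpectrum.basicOpen f : Set (PrimeSpectrum A)) \
      ⋃ g ∈ s, (PrimeSpectrum.basicOpen g : Set (PrimeSpectrum A)))) :
    ψ ∈ closure (kerPt ⁻¹' ((PrimeSpectrum.basicOpen f : Set (PrimeSpectrum A)) \
      ⋃ g ∈ s, (PrimeSpectrum.basicOpen g : Set (PrimeSpectrum A)))) := by
  set L : Set (PrimeSpectrum A) := (PrimeSpectrum.basicOpen f : Set (PrimeSpectrum A)) \
      ⋃ g ∈ s, (PrimeSpectrum.basicOpen g : Set (PrimeSpectrum A)) with hL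
  have hLmem : ∀ x : PrimeSpectrum A, x ∈ L ↔ f ∉ x.asIdeal ∧ ∀ g ∈ s, g ∈ x.asIdeal := by
    intro x
    simp only [hL, Set.mem_diff, SetLike.mem_coe, PrimeSpectrum.mem_basicOpen, Set.mem_iUnion,
      exists_prop, not_exists, not_and, not_not]
  let I : Ideal A := Ideal.span s
  let q : A →+* A ⧸ I := Ideal.Quotient.mk I
  let B := Localization.Away (q f)
  let θ : A →+* B := (algebraMap (A ⧸ I) B).comp q
  have hrange : Set.range (PrimeSpectrum.comap θ) = L := by
    ext x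
    rw [hLmem]
    constructor
    · rintro ⟨y, rfl⟩
      refine ⟨fun hf => ?_, fun g hg => ?_⟩
      · have h1 : θ f ∈ y.asIdeal := hf
        have h2 : IsUnit (θ f) := IsLocalization.Away.algebraMap_isUnit (q f)
        exact y.2.ne_top (Ideal.eq_top_of_isUnit_mem _ h1 h2)
      · change θ g ∈ y.asIdeal
        have : q g = 0 := Ideal.Quotient.eq_zero_iff_mem.mpr (Ideal.subset_span hg)
        change algebraMap (A ⧸ I) B (q g) ∈ y.asIdeal
        rw [this, map_zero]
        exact zero_mem _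
    · rintro ⟨hf, hs⟩
      have hI : I ≤ x.asIdeal := Ideal.span_le.mpr hs
      have hx : x ∈ Set.range (PrimeSpectrum.comap q) := by
        rw [range_comap_of_surjective _ _ Ideal.Quotient.mk_surjective,
          Ideal.mk_ker]
        exact hI
      obtain ⟨y, rfl⟩ := hx
      have hy : y ∈ Set.range (PrimeSpectrum.comap (algebraMap (A ⧸ I) B)) := by
        rw [PrimeSpectrum.localization_away_comap_range B (q f)]
        exact hf
      obtain ⟨z, rfl⟩ := hy
      exact ⟨z, rfl⟩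
  have hcl : closure L = PrimeSpectrum.zeroLocus (RingHom.ker θ) := by
    rw [← hrange, PrimeSpectrum.closure_range_comap]
  rw [hcl, PrimeSpectrum.mem_zeroLocus] at hψ
  have hle : RingHom.ker θ ≤ RingHom.ker ψ := hψ
  haveI : (RingHom.ker ψ).IsPrime := RingHom.ker_isPrime ψ
  obtain ⟨p, hpmin, hpψ⟩ := Ideal.exists_minimalPrimes_le hle
  obtain ⟨p', hp'prime, -, hp'⟩ := Ideal.exists_comap_eq_of_mem_minimalPrimes (I := ⊥) θ p
    (by rwa [← RingHom.ker_eq_comap_bot])
  haveI : p.IsPrime := hpmin.isPrime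
  have hpL : (⟨p, inferInstance⟩ : PrimeSpectrum A) ∈ L := by
    rw [← hrange]
    exact ⟨⟨p', hp'prime⟩, PrimeSpectrum.ext hp'⟩
  obtain ⟨hfp, hsp⟩ := (hLmem _).mp hpL
  -- the integral quotient
  haveI : IsDomain (A ⧸ p) := Ideal.Quotient.isDomain p
  haveI : Algebra.FiniteType ℂ (A ⧸ p) :=
    Algebra.FiniteType.of_surjective (Ideal.Quotient.mkₐ ℂ p) (Ideal.Quotient.mkₐ_surjective ℂ p)
  have hh : Ideal.Quotient.mk p f ≠ 0 := fun h0 => hfp (Ideal.Quotient.eq_zero_iff_mem.mp h0)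
  have hdense := dense_ne_zero (Ideal.Quotient.mk p f) hh
  let ψbar : (A ⧸ p) →ₐ[ℂ] ℂ := Ideal.Quotient.liftₐ p ψ fun a ha => hpψ ha
  have hψbar : quotMap p ψbar = ψ := by
    ext a
    simp [quotMap, ψbar]
  have himg : quotMap p '' {ψ' : (A ⧸ p) →ₐ[ℂ] ℂ | ψ' (Ideal.Quotient.mk p f) ≠ 0} ⊆
      kerPt ⁻¹' L := by
    rintro _ ⟨ψ', hψ', rfl⟩
    rw [Set.mem_preimage, hLmem]
    refine ⟨fun hf => hψ' ?_, fun g hg => ?_⟩
    · exact hf
    · change ψ' (Ideal.Quotient.mk p g) = 0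
      rw [Ideal.Quotient.eq_zero_iff_mem.mpr (hsp g hg), map_zero]
  rw [← hψbar]
  exact closure_mono himg
    (image_closure_subset_closure_image (continuous_quotMap p) ⟨ψbar, hdense ψbar, rfl⟩)

theorem preimage_closure_subset_of_isConstructible [Algebra.FiniteType ℂ A]
    (T : Set (PrimeSpectrum A)) (hT : IsConstructible T) :
    kerPt ⁻¹' closure T ⊆ closure (kerPt ⁻¹' T : Set (A →ₐ[ℂ] ℂ)) := by
  induction T, hT using IsConstructible.induction_of_isTopologicalBasis
    (fun a : A => (PrimeSpectrum.basicOpen a : Set (PrimeSpectrum A)))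
    PrimeSpectrum.isTopologicalBasis_basic_opens
    (fun a => PrimeSpectrum.isCompact_basicOpen a) with
  | sdiff f s hs => exact fun ψ hψ => mem_closure_of_sdiff f s ψ hψ
  | union s hs t ht ihs iht =>
    rw [closure_union, Set.preimage_union, Set.preimage_union, closure_union]
    exact Set.union_subset_union ihs iht

end

end Groth.Agent.Lib.Helper19.CP
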