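import Groth.Agent.Lib.Helper19.CP.Basic

set_option autoImplicit false
set_option linter.style.haveILetI false
open Topology

namespace Groth.Agent.Lib.Helper19.CP

attribute [local instance] top

variable {A : Type*} [CommRing A] [Algebra ℂ A]

lemma apply_aeval {n : ℕ} (s : Fin n → A) (ψ : A →ₐ[ℂ] ℂ) (P : MvPolynomial (Fin n) ℂ) :
    ψ (MvPolynomial.aeval s P) = MvPolynomial.eval (fun i => ψ (s i)) P := by
  rw [MvPolynomial.comp_aeval_apply]
  rfl

theorem range_eq_of_generators {n : ℕ} (s : Fin n → A)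
    (hs : Function.Surjective (MvPolynomial.aeval s : MvPolynomial (Fin n) ℂ →ₐ[ℂ] A)) :
    Set.range (fun (ψ : A →ₐ[ℂ] ℂ) (i : Fin n) => ψ (s i)) =
      {v | ∀ P ∈ RingHom.ker (MvPolynomial.aeval s : MvPolynomial (Fin n) ℂ →ₐ[ℂ] A),
        MvPolynomial.eval v P = 0} := by
  ext v
  constructor
  · rintro ⟨ψ, rfl⟩ P hP
    rw [← apply_aeval, (RingHom.mem_ker).mp hP, map_zero]
  · intro hv
    let π : MvPolynomial (Fin n) ℂ →+* A := (MvPolynomial.aeval s : MvPolynomial (Fin n) ℂ →ₐ[ℂ] A)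
    have hker : RingHom.ker π ≤ RingHom.ker (MvPolynomial.eval v) := fun P hP =>
      (RingHom.mem_ker).mpr (hv P hP)
    let ψ₀ : A →+* ℂ := π.liftOfSurjective hs ⟨MvPolynomial.eval v, hker⟩
    have hψ₀ : ∀ P, ψ₀ (MvPolynomial.aeval s P) = MvPolynomial.eval v P := fun P =>
      π.liftOfRightInverse_comp_apply _ _ ⟨MvPolynomial.eval v, hker⟩ P
    let ψ : A →ₐ[ℂ] ℂ :=
      { ψ₀ with
        commutes' := fun c => by
          have h := hψ₀ (MvPolynomial.C c)
          rw [MvPolynomial.aeval_C, MvPolynomial.eval_C] at h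
          exact h }
    refine ⟨ψ, funext fun i => ?_⟩
    have h := hψ₀ (MvPolynomial.X i)
    rw [MvPolynomial.aeval_X, MvPolynomial.eval_X] at h
    exact h

theorem isClosedEmbedding_of_generators {n : ℕ} (s : Fin n → A)
    (hs : Function.Surjective (MvPolynomial.aeval s : MvPolynomial (Fin n) ℂ →ₐ[ℂ] A)) :
    IsClosedEmbedding (fun (ψ : A →ₐ[ℂ] ℂ) (i : Fin n) => ψ (s i)) := by
  have hcont : Continuous (fun (ψ : A →ₐ[ℂ] ℂ) (i : Fin n) => ψ (s i)) :=
    continuous_pi fun i => continuous_eval (s i)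
  refine ⟨⟨⟨le_antisymm (continuous_iff_le_induced.mp hcont) ?_⟩, ?_⟩, ?_⟩
  · -- the weak topology is coarser than the one induced by the generators
    change TopologicalSpace.induced _ _ ≤ TopologicalSpace.induced _ _
    rw [← continuous_iff_le_induced]
    letI : TopologicalSpace (A →ₐ[ℂ] ℂ) :=
      TopologicalSpace.induced (fun (ψ : A →ₐ[ℂ] ℂ) (i : Fin n) => ψ (s i)) inferInstance
    refine continuous_pi fun a => ?_
    obtain ⟨P, rfl⟩ := hs a
    have : (fun ψ : A →ₐ[ℂ] ℂ => ψ (MvPolynomial.aeval s P)) =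
        (fun v : Fin n → ℂ => MvPolynomial.eval v P) ∘
          (fun (ψ : A →ₐ[ℂ] ℂ) (i : Fin n) => ψ (s i)) := by
      funext ψ
      exact apply_aeval s ψ P
    change Continuous (fun ψ : A →ₐ[ℂ] ℂ => ψ (MvPolynomial.aeval s P))
    rw [this]
    exact (MvPolynomial.continuous_eval P).comp continuous_induced_dom
  · intro ψ ψ' h
    ext a
    obtain ⟨P, rfl⟩ := hs a
    rw [apply_aeval, apply_aeval]
    exact congrArg (fun v => MvPolynomial.eval v P) h
  · rw [range_eq_of_generators s hs]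
    simp only [Set.ofPred_forall]
    exact isClosed_iInter fun P => isClosed_iInter fun _ =>
      isClosed_eq (MvPolynomial.continuous_eval P) continuous_const

end Groth.Agent.Lib.Helper19.CP
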