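import Groth.Agent.Lib.Helper19.CP.Open
import Mathlib.RingTheory.Etale.StandardEtale
import Mathlib.RingTheory.Unramified.LocalStructure
import Mathlib.Algebra.Polynomial.Taylor

set_option autoImplicit false
set_option linter.style.haveILetI false
open Polynomial Topology Filter

namespace Groth.Agent.Lib.Helper19.CP

attribute [local instance] top

section pev

variable {R : Type*} [CommRing R] [Algebra ℂ R]

/-- Evaluate `p ∈ R[X]` at a point `(χ, t)` of `CP R × ℂ`. -/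
noncomputable def pev (p : R[X]) (q : (R →ₐ[ℂ] ℂ) × ℂ) : ℂ :=
  (p.map ((q.1 : R →ₐ[ℂ] ℂ) : R →+* ℂ)).eval q.2

lemma pev_eq_sum (p : R[X]) (q : (R →ₐ[ℂ] ℂ) × ℂ) :
    pev p q = ∑ i ∈ Finset.range (p.natDegree + 1), q.1 (p.coeff i) * q.2 ^ i := by
  unfold pev
  rw [eval_map, eval₂_eq_sum_range]
  rfl

lemma continuous_pev (p : R[X]) : Continuous (pev p) := by
  have : pev p = fun q => ∑ i ∈ Finset.range (p.natDegree + 1), q.1 (p.coeff i) * q.2 ^ i :=
    funext (pev_eq_sum p)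
  rw [this]
  refine continuous_finsetSum _ fun i _ => ?_
  exact ((continuous_eval (p.coeff i)).comp continuous_fst).mul (continuous_snd.pow i)

/-- Roots of a monic polynomial depend continuously on the coefficients (existence part). -/
lemma exists_nhd_root {p : R[X]} (hp : p.Monic) (χ₀ : R →ₐ[ℂ] ℂ) (t₀ : ℂ)
    (h0 : pev p (χ₀, t₀) = 0) {ε : ℝ} (hε : 0 < ε) :
    ∃ M ∈ 𝓝 χ₀, ∀ χ ∈ M, ∃ t, pev p (χ, t) = 0 ∧ ‖t - t₀‖ < ε := by
  have hd : 0 < p.natDegree := by
    rcases Nat.eq_zero_or_pos p.natDegree with h | h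
    · exfalso
      have h1 : p = 1 := hp.natDegree_eq_zero.mp h
      rw [h1] at h0
      simp [pev] at h0
    · exact h
  have hcont : Continuous (fun χ : R →ₐ[ℂ] ℂ => pev p (χ, t₀)) :=
    (continuous_pev p).comp (continuous_id.prodMk continuous_const)
  refine ⟨{χ | ‖pev p (χ, t₀)‖ < ε ^ p.natDegree}, ?_, ?_⟩
  · refine (isOpen_lt hcont.norm continuous_const).mem_nhds ?_
    simp only [Set.mem_ofPred_eq, h0, norm_zero]
    exact pow_pos hε _
  · intro χ hχ
    set q : ℂ[X] := taylor t₀ (p.map ((χ : R →ₐ[ℂ] ℂ) : R →+* ℂ)) with hq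
    have hpm : (p.map ((χ : R →ₐ[ℂ] ℂ) : R →+* ℂ)).Monic := hp.map _
    have hqm : q.Monic := by
      rw [Monic, hq, leadingCoeff_taylor]; exact hpm
    have hqd : q.natDegree = p.natDegree := by
      rw [hq, natDegree_taylor, hp.natDegree_map]
    have hq0 : q.coeff 0 = pev p (χ, t₀) := by
      rw [hq, taylor_coeff_zero]; rfl
    obtain ⟨r, hr, hrε⟩ := exists_root_norm_lt hqm (by rw [hqd]; exact hd) hε
      (by rw [hq0, hqd]; exact hχ)
    refine ⟨r + t₀, ?_, by simpa using hrε⟩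
    have := hr
    rw [IsRoot.def, hq, taylor_eval] at this
    exact this

end pev

section std

variable {R S : Type*} [CommRing R] [CommRing S] [Algebra ℂ R] [Algebra ℂ S] [Algebra R S]
  [IsScalarTower ℂ R S]

/-- The embedding `CP S → CP R × ℂ` for a standard étale algebra. -/
noncomputable def stdE (P : StandardEtalePresentation R S) (ψ : S →ₐ[ℂ] ℂ) :
    (R →ₐ[ℂ] ℂ) × ℂ := (res ψ, ψ P.x)

lemma pev_stdE (P : StandardEtalePresentation R S) (ψ : S →ₐ[ℂ] ℂ) (p : R[X]) :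
    pev p (stdE P ψ) = ψ (aeval P.x p) := (map_aeval ψ P.x p).symm

lemma pev_g_stdE_ne_zero (P : StandardEtalePresentation R S) (ψ : S →ₐ[ℂ] ℂ) :
    pev P.g (stdE P ψ) ≠ 0 := by
  rw [pev_stdE]
  exact (P.hasMap.2.map ψ).ne_zero

lemma pev_f_stdE (P : StandardEtalePresentation R S) (ψ : S →ₐ[ℂ] ℂ) :
    pev P.f (stdE P ψ) = 0 := by
  rw [pev_stdE, P.hasMap.1, map_zero]

lemma continuous_stdE (P : StandardEtalePresentation R S) : Continuous (stdE P) :=
  continuous_res.prodMk (continuous_eval P.x)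

lemma isInducing_stdE (P : StandardEtalePresentation R S) : IsInducing (stdE P) := by
  rw [isInducing_iff_nhds]
  intro ψ
  apply le_antisymm
  · exact tendsto_iff_comap.mp (continuous_stdE P).continuousAt
  · rw [(isInducing_coe (A := S)).nhds_eq_comap, nhds_pi, Filter.pi, comap_iInf]
    refine le_iInf fun a => ?_
    rw [comap_comap, ← tendsto_iff_comap]
    obtain ⟨p, n, hpn⟩ := P.exists_mul_aeval_x_g_pow_eq_aeval_x a
    have hform : ∀ ψ' : S →ₐ[ℂ] ℂ, ψ' a = pev p (stdE P ψ') / pev P.g (stdE P ψ') ^ n := by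
      intro ψ'
      rw [pev_stdE, pev_stdE, ← hpn, map_mul, map_pow, mul_div_assoc, div_self, mul_one]
      exact pow_ne_zero _ (by rw [← pev_stdE]; exact pev_g_stdE_ne_zero P ψ')
    have hF : ContinuousAt (fun q : (R →ₐ[ℂ] ℂ) × ℂ => pev p q / pev P.g q ^ n) (stdE P ψ) :=
      (continuous_pev p).continuousAt.div ((continuous_pev P.g).continuousAt.pow n)
        (pow_ne_zero _ (pev_g_stdE_ne_zero P ψ))
    have h1 : Tendsto ((fun q : (R →ₐ[ℂ] ℂ) × ℂ => pev p q / pev P.g q ^ n) ∘ stdE P)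
        (comap (stdE P) (𝓝 (stdE P ψ))) (𝓝 (ψ a)) := by
      rw [hform ψ]
      exact hF.tendsto.comp tendsto_comap
    refine h1.congr fun ψ' => ?_
    simp only [Function.comp_apply]
    exact (hform ψ').symm

/-- Points of a standard étale algebra: existence from a root. -/
lemma exists_point_of_root (P : StandardEtalePresentation R S) (χ : R →ₐ[ℂ] ℂ) (t : ℂ)
    (hf : pev P.f (χ, t) = 0) (hg : pev P.g (χ, t) ≠ 0) :
    ∃ ψ : S →ₐ[ℂ] ℂ, stdE P ψ = (χ, t) := by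
  letI : Algebra R ℂ := (χ : R →+* ℂ).toAlgebra
  haveI : IsScalarTower ℂ R ℂ := IsScalarTower.of_algebraMap_eq' (by
    ext c
    simp [RingHom.algebraMap_toAlgebra])
  have hmap : P.P.HasMap t := by
    refine ⟨?_, ?_⟩
    · rw [aeval_def, ← eval_map]; exact hf
    · rw [aeval_def, ← eval_map]; exact isUnit_iff_ne_zero.mpr hg
  let ψR : S →ₐ[R] ℂ := (P.P.lift t hmap).comp P.equivRing.toAlgHom
  refine ⟨ψR.restrictScalars ℂ, ?_⟩
  unfold stdE
  refine Prod.ext ?_ ?_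
  · ext r
    change ψR (algebraMap R S r) = χ r
    rw [AlgHom.commutes]
    rfl
  · change ψR P.x = t
    simp [ψR]

theorem isOpenMap_res_of_standardEtalePresentation (P : StandardEtalePresentation R S) :
    IsOpenMap (res : (S →ₐ[ℂ] ℂ) → (R →ₐ[ℂ] ℂ)) := by
  rw [isOpenMap_iff_nhds_le]
  intro ψ₀ N' hN'
  rw [Filter.mem_map] at hN'
  rw [(isInducing_stdE P).nhds_eq_comap, mem_comap] at hN'
  obtain ⟨N₂, hN₂, hN₂sub⟩ := hN'
  have hg0 : {q : (R →ₐ[ℂ] ℂ) × ℂ | pev P.g q ≠ 0} ∈ 𝓝 (stdE P ψ₀) :=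
    (isOpen_ne_fun (continuous_pev P.g) continuous_const).mem_nhds (pev_g_stdE_ne_zero P ψ₀)
  have hN₃ := inter_mem hN₂ hg0
  have hE : stdE P ψ₀ = (res ψ₀, ψ₀ P.x) := rfl
  rw [hE, mem_nhds_prod_iff] at hN₃
  obtain ⟨M', hM', B, hB, hMB⟩ := hN₃
  obtain ⟨δ, hδ, hδB⟩ := Metric.mem_nhds_iff.mp hB
  obtain ⟨M'', hM'', hroot⟩ := exists_nhd_root P.monic_f (res ψ₀) (ψ₀ P.x)
    (by rw [← hE]; exact pev_f_stdE P ψ₀) hδ
  refine mem_of_superset (inter_mem hM' hM'') ?_
  rintro χ ⟨hχ', hχ''⟩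
  obtain ⟨t, ht0, htδ⟩ := hroot χ hχ''
  have hmem : (χ, t) ∈ N₂ ∩ {q | pev P.g q ≠ 0} :=
    hMB (Set.mk_mem_prod hχ' (hδB (by rw [Metric.mem_ball, dist_eq_norm]; exact htδ)))
  obtain ⟨ψ, hψ⟩ := exists_point_of_root P χ t ht0 hmem.2
  have hψN : ψ ∈ res ⁻¹' N' := hN₂sub (by rw [Set.mem_preimage, hψ]; exact hmem.1)
  have hres : res ψ = χ := congrArg Prod.fst hψ
  rw [← hres]
  exact hψN

theorem isOpenMap_res_of_isStandardEtale [Algebra.IsStandardEtale R S] :
    IsOpenMap (res : (S →ₐ[ℂ] ℂ) → (R →ₐ[ℂ] ℂ)) :=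
  isOpenMap_res_of_standardEtalePresentation
    (Algebra.IsStandardEtale.nonempty_standardEtalePresentation (R := R) (S := S)).some

end std

section etale

variable {R A : Type*} [CommRing R] [CommRing A] [Algebra ℂ R] [Algebra ℂ A] [Algebra R A]
  [IsScalarTower ℂ R A]

/-- For an étale algebra `A` over `R`, the map on complex points is open. -/
theorem isOpenMap_res_of_etale [Algebra.Etale R A] :
    IsOpenMap (res : (A →ₐ[ℂ] ℂ) → (R →ₐ[ℂ] ℂ)) := by
  rw [isOpenMap_iff_nhds_le]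
  intro ψ₀ N' hN'
  rw [Filter.mem_map] at hN'
  let Q : Ideal A := RingHom.ker (ψ₀ : A →+* ℂ)
  haveI hQ : Q.IsPrime := RingHom.ker_isPrime (ψ₀ : A →+* ℂ)
  haveI : Algebra.IsEtaleAt R Q := by
    have h := (Algebra.etaleLocus_eq_univ_iff_etale (R := R) (A := A)).mpr inferInstance
    have hmem : (⟨Q, hQ⟩ : PrimeSpectrum A) ∈ Algebra.etaleLocus R A := by rw [h]; trivial
    exact hmem
  obtain ⟨f, hfQ, hstd⟩ := Algebra.IsEtaleAt.exists_isStandardEtale (R := R) Q
  have hf0 : ψ₀ f ≠ 0 := fun h => hfQ ((RingHom.mem_ker).mpr h)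
  haveI : IsScalarTower ℂ R (Localization.Away f) := IsScalarTower.of_algebraMap_eq' (by
    rw [IsScalarTower.algebraMap_eq ℂ A (Localization.Away f),
      IsScalarTower.algebraMap_eq R A (Localization.Away f), RingHom.comp_assoc,
      ← IsScalarTower.algebraMap_eq ℂ R A])
  -- the lift of ψ₀ to the localization
  let ψ₀' : Localization.Away f →ₐ[ℂ] ℂ :=
    IsLocalization.Away.liftAlgHom (A := ℂ) (S := Localization.Away f) f (f := ψ₀)
      (isUnit_iff_ne_zero.mpr hf0)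
  have hψ₀' : (res ψ₀' : A →ₐ[ℂ] ℂ) = ψ₀ := by
    ext a
    change IsLocalization.Away.lift (S := Localization.Away f) (g := (ψ₀ : A →+* ℂ)) f
      (isUnit_iff_ne_zero.mpr hf0) (algebraMap A (Localization.Away f) a) = ψ₀ a
    rw [IsLocalization.Away.lift_eq]
    rfl
  have hcomp : ∀ ψ : Localization.Away f →ₐ[ℂ] ℂ,
      (res (res ψ : A →ₐ[ℂ] ℂ) : R →ₐ[ℂ] ℂ) = res ψ := by
    intro ψ
    ext r
    change ψ (algebraMap A (Localization.Away f) (algebraMap R A r)) =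
      ψ (algebraMap R (Localization.Away f) r)
    rw [← IsScalarTower.algebraMap_apply]
  have hopen := isOpenMap_res_of_isStandardEtale (R := R) (S := Localization.Away f)
  have h1 : (res : (Localization.Away f →ₐ[ℂ] ℂ) → (A →ₐ[ℂ] ℂ)) ⁻¹' (res ⁻¹' N') ∈ 𝓝 ψ₀' := by
    refine (continuous_res (R := A) (A := Localization.Away f)).continuousAt.preimage_mem_nhds ?_
    rw [hψ₀']
    exact hN'
  have h2 := hopen.image_mem_nhds h1
  rw [← hcomp ψ₀', hψ₀'] at h2
  refine mem_of_superset h2 ?_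
  rintro _ ⟨ψ, hψ, rfl⟩
  rw [← hcomp ψ]
  exact hψ

end etale

end Groth.Agent.Lib.Helper19.CP
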