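import Groth.Agent.Lib.Helper19.CP.Open
import Mathlib.RingTheory.Polynomial.RationalRoot
import Mathlib.RingTheory.Polynomial.UniqueFactorization

set_option autoImplicit false
set_option linter.style.haveILetI false
open Topology Polynomial

namespace Groth.Agent.Lib.Helper19.CP

attribute [local instance] top

lemma minpoly_coeff_zero_ne_zero {R A : Type*} [CommRing R] [IsDomain R] [CommRing A] [IsDomain A]
    [Algebra R A] {h : A} (hint : IsIntegral R h) (hh : h ≠ 0) : (minpoly R h).coeff 0 ≠ 0 := by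
  intro h0
  obtain ⟨q, hq⟩ := Polynomial.X_dvd_iff.mpr h0
  have hqm : q.Monic := by
    have := minpoly.monic hint
    rw [hq] at this
    exact Polynomial.monic_X.of_mul_monic_left this
  have haev : aeval h q = 0 := by
    have := minpoly.aeval R h
    rw [hq, map_mul, aeval_X] at this
    exact (mul_eq_zero.mp this).resolve_left hh
  have hdeg := minpoly.min R h hqm haev
  have hq0 : q ≠ 0 := hqm.ne_zero
  rw [hq, degree_mul, degree_X, degree_eq_natDegree hq0] at hdeg
  norm_cast at hdeg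
  omega

/-- A nonzero polynomial does not vanish identically near any point of affine space. -/
lemma exists_mem_nhd_ne_zero {n : ℕ} (χ₀ : MvPolynomial (Fin n) ℂ →ₐ[ℂ] ℂ)
    {M : Set (MvPolynomial (Fin n) ℂ →ₐ[ℂ] ℂ)} (hM : M ∈ 𝓝 χ₀)
    (c : MvPolynomial (Fin n) ℂ) (hc : c ≠ 0) : ∃ χ ∈ M, χ c ≠ 0 := by
  let ev : (Fin n → ℂ) → (MvPolynomial (Fin n) ℂ →ₐ[ℂ] ℂ) := fun v => MvPolynomial.aeval v
  have hevc : Continuous ev := continuous_iff.mpr fun r => by
    change Continuous fun v => MvPolynomial.eval v r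
    exact MvPolynomial.continuous_eval r
  let v₀ : Fin n → ℂ := fun i => χ₀ (MvPolynomial.X i)
  have hv₀ : ev v₀ = χ₀ := MvPolynomial.algHom_ext fun i => by simp [ev, v₀]
  have hpre : ev ⁻¹' M ∈ 𝓝 v₀ := hevc.continuousAt.preimage_mem_nhds (hv₀ ▸ hM)
  obtain ⟨δ, hδ, hball⟩ := Metric.mem_nhds_iff.mp hpre
  by_contra! H
  apply hc
  refine MvPolynomial.funext_set (fun i => Metric.ball (v₀ i) δ)
    (fun i => infinite_of_mem_nhds (v₀ i) (Metric.ball_mem_nhds _ hδ)) fun v hv => ?_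
  rw [map_zero]
  have hvb : v ∈ Metric.ball v₀ δ := by
    rw [ball_pi _ hδ]
    exact hv
  have := H (ev v) (hball hvb)
  simpa [ev] using this

/-- Density of a nonempty principal open in the complex points of an affine integral variety. -/
theorem dense_ne_zero {A : Type*} [CommRing A] [IsDomain A] [Algebra ℂ A] [Algebra.FiniteType ℂ A]
    (h : A) (hh : h ≠ 0) : Dense {ψ : A →ₐ[ℂ] ℂ | ψ h ≠ 0} := by
  intro φ
  rw [mem_closure_iff_nhds]
  intro N hN
  obtain ⟨n, g, hginj, hgfin⟩ := exists_finite_inj_algHom_of_fg ℂ A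
  letI : Algebra (MvPolynomial (Fin n) ℂ) A := g.toRingHom.toAlgebra
  haveI : IsScalarTower ℂ (MvPolynomial (Fin n) ℂ) A :=
    IsScalarTower.of_algebraMap_eq fun c => (g.commutes c).symm
  haveI : Module.Finite (MvPolynomial (Fin n) ℂ) A := hgfin
  haveI : FaithfulSMul (MvPolynomial (Fin n) ℂ) A :=
    (faithfulSMul_iff_algebraMap_injective _ A).mpr hginj
  obtain ⟨M, hM, hlift⟩ := exists_nhd_lift (R := MvPolynomial (Fin n) ℂ) φ hN
  have hint : IsIntegral (MvPolynomial (Fin n) ℂ) h := Algebra.IsIntegral.isIntegral h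
  have hc := minpoly_coeff_zero_ne_zero hint hh
  obtain ⟨χ, hχM, hχc⟩ := exists_mem_nhd_ne_zero (res φ) hM _ hc
  obtain ⟨ψ, hψN, hψ⟩ := hlift χ hχM
  refine ⟨ψ, hψN, ?_⟩
  intro (h0 : ψ h = 0)
  have h1 := map_aeval (R := MvPolynomial (Fin n) ℂ) ψ h (minpoly (MvPolynomial (Fin n) ℂ) h)
  rw [minpoly.aeval, map_zero, h0, ← coeff_zero_eq_eval_zero, coeff_map, hψ] at h1
  exact hχc h1.symm

end Groth.Agent.Lib.Helper19.CP
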