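import Groth.Agent.Lib.Helper19.CP.Open

set_option autoImplicit false
set_option linter.style.haveILetI false
open Polynomial Topology Filter

namespace Groth.Agent.Lib.Helper19.CP

attribute [local instance] top

variable {R A : Type*} [CommRing R] [CommRing A] [Algebra ℂ R] [Algebra ℂ A] [Algebra R A]
  [IsScalarTower ℂ R A]

/-- Fibres of the map on complex points of a finite algebra are finite (no domain hypothesis). -/
lemma finite_fibre' [Module.Finite R A] (χ : R →ₐ[ℂ] ℂ) :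
    {ψ : A →ₐ[ℂ] ℂ | res ψ = χ}.Finite := by
  obtain ⟨s, hs⟩ := (Module.Finite.fg_top : (⊤ : Submodule R A).FG)
  have hint : ∀ y : A, ∃ p : R[X], p.Monic ∧ aeval y p = 0 := fun y => by
    obtain ⟨p, hpm, hp⟩ := Algebra.IsIntegral.isIntegral (R := R) y
    exact ⟨p, hpm, by rw [aeval_def]; exact hp⟩
  choose P hPm hP using hint
  have htfin : (Set.pi Set.univ
      (fun y : ↥s => {z : ℂ | ((P (y : A)).map (χ : R →+* ℂ)).IsRoot z})).Finite := by
    refine Set.Finite.pi fun y => Polynomial.finite_setOfPred_isRoot ?_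
    exact ((hPm y).map _).ne_zero
  refine Set.Finite.of_injOn (f := fun (ψ : A →ₐ[ℂ] ℂ) (y : ↥s) => ψ (y : A)) ?_ ?_ htfin
  · intro ψ hψ
    simp only [Set.mem_pi, Set.mem_univ, forall_true_left, Set.mem_ofPred_eq]
    intro y
    have h := map_aeval (R := R) ψ (y : A) (P (y : A))
    rw [hP, map_zero] at h
    rw [Polynomial.IsRoot.def, ← (hψ : res ψ = χ)]
    exact h.symm
  · intro ψ hψ ψ' hψ' heq
    ext a
    have ha : a ∈ Submodule.span R (s : Set A) := hs ▸ Submodule.mem_top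
    induction ha using Submodule.span_induction with
    | mem y hy => exact congrFun heq ⟨y, hy⟩
    | zero => simp
    | add x y _ _ hx hy => rw [map_add, map_add, hx, hy]
    | smul r x _ hx =>
      rw [Algebra.smul_def, map_mul, map_mul, hx]
      congr 1
      have h1 : res ψ r = res ψ' r := by rw [(hψ : res ψ = χ), (hψ' : res ψ' = χ)]
      exact h1

/-- For an integral algebra over a finitely generated `ℂ`-algebra, the map on complex points is
closed. -/
theorem isClosedMap_res_of_integral [Algebra.FiniteType ℂ R] [Algebra.IsIntegral R A] :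
    IsClosedMap (res : (A →ₐ[ℂ] ℂ) → (R →ₐ[ℂ] ℂ)) := by
  haveI := t2Space (A := R)
  intro Z hZ
  rw [← closure_subset_iff_isClosed]
  intro χ₀ hχ₀
  obtain ⟨M, hMc, hMn, hMb⟩ := exists_closed_nhd_bounded χ₀
  have hK : IsCompact (Z ∩ res ⁻¹' M) :=
    isCompact_of_bounded (hZ.inter (hMc.preimage (continuous_res (R := R) (A := A)))) (fun a => by
      obtain ⟨ρ, hρ⟩ := bounded_of_integral (A := A) hMb a
      exact ⟨ρ, fun ψ hψ => hρ ψ hψ.2⟩)
  have hKc : IsClosed (res '' (Z ∩ res ⁻¹' M)) := (hK.image (continuous_res (R := R) (A := A))).isClosed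
  have h1 : χ₀ ∈ closure (res '' Z ∩ M) := by
    rw [mem_closure_iff_nhds]
    intro t ht
    obtain ⟨χ, hχt, hχZ⟩ := mem_closure_iff_nhds.mp hχ₀ (t ∩ M) (inter_mem ht hMn)
    exact ⟨χ, hχt.1, hχZ, hχt.2⟩
  have h2 : res '' Z ∩ M ⊆ res '' (Z ∩ res ⁻¹' M) := by
    rintro _ ⟨⟨ψ, hψ, rfl⟩, hM⟩
    exact ⟨ψ, ⟨hψ, hM⟩, rfl⟩
  have h3 := closure_minimal h2 hKc h1
  obtain ⟨ψ, hψ, rfl⟩ := h3
  exact ⟨ψ, hψ.1, rfl⟩

end Groth.Agent.Lib.Helper19.CP
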