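import Mathlib.Analysis.Complex.Basic
import Mathlib.Analysis.Complex.Polynomial.Basic
import Mathlib.Topology.Algebra.MvPolynomial
import Mathlib.RingTheory.NoetherNormalization
import Mathlib.FieldTheory.Minpoly.IsIntegrallyClosed
import Mathlib.Analysis.Polynomial.CauchyBound
import Mathlib.RingTheory.Jacobson.Ring
import Mathlib.FieldTheory.IsAlgClosed.Basic
import Mathlib.Algebra.MvPolynomial.Funext
import Mathlib.RingTheory.Ideal.GoingUp

set_option autoImplicit false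
open Topology Polynomial

namespace Groth.Agent.Lib.Helper19.CP

section basic

variable {A : Type*} [CommRing A] [Algebra ℂ A]

/-- The weak topology on the set of ℂ-algebra homomorphisms `A → ℂ`. -/
@[instance_reducible]
noncomputable def top (A : Type*) [CommRing A] [Algebra ℂ A] : TopologicalSpace (A →ₐ[ℂ] ℂ) :=
  TopologicalSpace.induced (fun ψ => (ψ : A → ℂ)) inferInstance

attribute [local instance] top

lemma isInducing_coe : IsInducing (fun ψ : A →ₐ[ℂ] ℂ => (ψ : A → ℂ)) := ⟨rfl⟩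

lemma continuous_eval (a : A) : Continuous (fun ψ : A →ₐ[ℂ] ℂ => ψ a) :=
  (continuous_apply a).comp continuous_induced_dom

lemma continuous_iff {Z : Type*} [TopologicalSpace Z] {F : Z → (A →ₐ[ℂ] ℂ)} :
    Continuous F ↔ ∀ a, Continuous (fun z => F z a) :=
  continuous_induced_rng.trans continuous_pi_iff

lemma t2Space : T2Space (A →ₐ[ℂ] ℂ) :=
  T2Space.of_injective_continuous (f := fun ψ : A →ₐ[ℂ] ℂ => (ψ : A → ℂ))
    DFunLike.coe_injective continuous_induced_dom

lemma isClosed_range_coe : IsClosed (Set.range (fun ψ : A →ₐ[ℂ] ℂ => (ψ : A → ℂ))) := by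
  have : Set.range (fun ψ : A →ₐ[ℂ] ℂ => (ψ : A → ℂ)) =
      {F : A → ℂ | (∀ a b, F (a + b) = F a + F b) ∧ (∀ a b, F (a * b) = F a * F b) ∧
        (∀ c : ℂ, F (algebraMap ℂ A c) = c)} := by
    ext F
    constructor
    · rintro ⟨ψ, rfl⟩
      exact ⟨map_add ψ, map_mul ψ, fun c => by simp⟩
    · rintro ⟨hadd, hmul, hc⟩
      refine ⟨{ toFun := F, map_one' := by simpa using hc 1, map_mul' := hmul,
                map_zero' := by simpa using hc 0, map_add' := hadd,
                commutes' := fun c => by simpa using hc c }, rfl⟩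
  rw [this]
  simp only [Set.ofPred_and, Set.ofPred_forall]
  refine IsClosed.inter ?_ (IsClosed.inter ?_ ?_)
  · exact isClosed_iInter fun a => isClosed_iInter fun b =>
      isClosed_eq (continuous_apply (a + b)) (by fun_prop)
  · exact isClosed_iInter fun a => isClosed_iInter fun b =>
      isClosed_eq (continuous_apply (a * b)) (by fun_prop)
  · exact isClosed_iInter fun c => isClosed_eq (continuous_apply _) continuous_const

lemma isCompact_of_bounded {P : Set (A →ₐ[ℂ] ℂ)} (hP : IsClosed P)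
    (hb : ∀ a : A, ∃ ρ : ℝ, ∀ ψ ∈ P, ‖ψ a‖ ≤ ρ) : IsCompact P := by
  choose ρ hρ using hb
  have hK : IsCompact (Set.pi Set.univ (fun a : A => Metric.closedBall (0 : ℂ) (ρ a))) :=
    isCompact_univ_pi (fun a => isCompact_closedBall _ _)
  have := (isInducing_coe (A := A)).isCompact_preimage isClosed_range_coe hK
  refine this.of_isClosed_subset hP ?_
  intro ψ hψ
  simp only [Set.mem_preimage, Set.mem_pi, Set.mem_univ, forall_true_left,
    mem_closedBall_zero_iff]
  exact fun a => hρ a ψ hψ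

lemma exists_closed_nhd_bounded [Algebra.FiniteType ℂ A] (χ₀ : A →ₐ[ℂ] ℂ) :
    ∃ M : Set (A →ₐ[ℂ] ℂ), IsClosed M ∧ M ∈ 𝓝 χ₀ ∧
      ∀ r : A, ∃ ρ : ℝ, ∀ χ ∈ M, ‖χ r‖ ≤ ρ := by
  obtain ⟨s, hs⟩ := (Algebra.FiniteType.out : (⊤ : Subalgebra ℂ A).FG)
  let M : Set (A →ₐ[ℂ] ℂ) := ⋂ g ∈ s, {χ | ‖χ g - χ₀ g‖ ≤ 1}
  refine ⟨M, ?_, ?_, ?_⟩
  · exact isClosed_biInter fun g _ =>
      isClosed_le ((continuous_eval g).sub continuous_const).norm continuous_const
  · refine (Filter.biInter_finset_mem s).mpr fun g _ => ?_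
    have : {χ : A →ₐ[ℂ] ℂ | ‖χ g - χ₀ g‖ < 1} ∈ 𝓝 χ₀ :=
      (isOpen_lt ((continuous_eval g).sub continuous_const).norm continuous_const).mem_nhds
        (by simp)
    exact Filter.mem_of_superset this (fun χ (hχ : ‖χ g - χ₀ g‖ < 1) => le_of_lt hχ)
  · let B : Subalgebra ℂ A :=
      { carrier := {r | ∃ ρ : ℝ, ∀ χ ∈ M, ‖χ r‖ ≤ ρ}
        mul_mem' := by
          rintro a b ⟨ρa, ha⟩ ⟨ρb, hb⟩
          refine ⟨ρa * ρb, fun χ hχ => ?_⟩
          rw [map_mul, norm_mul]
          exact mul_le_mul (ha χ hχ) (hb χ hχ) (norm_nonneg _)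
            ((norm_nonneg _).trans (ha χ hχ))
        add_mem' := by
          rintro a b ⟨ρa, ha⟩ ⟨ρb, hb⟩
          refine ⟨ρa + ρb, fun χ hχ => ?_⟩
          rw [map_add]
          exact (norm_add_le _ _).trans (add_le_add (ha χ hχ) (hb χ hχ))
        algebraMap_mem' := fun c => ⟨‖c‖, fun χ _ => by simp⟩ }
    have hB : B = ⊤ := by
      rw [eq_top_iff, ← hs]
      refine Algebra.adjoin_le fun g hg => ⟨‖χ₀ g‖ + 1, fun χ hχ => ?_⟩
      have h1 : ‖χ g - χ₀ g‖ ≤ 1 := by
        have := Set.mem_iInter₂.mp hχ g hg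
        exact this
      calc ‖χ g‖ = ‖χ₀ g + (χ g - χ₀ g)‖ := by ring_nf
        _ ≤ ‖χ₀ g‖ + ‖χ g - χ₀ g‖ := norm_add_le _ _
        _ ≤ ‖χ₀ g‖ + 1 := by linarith
    intro r
    have : r ∈ B := hB ▸ Algebra.mem_top
    exact this

end basic

end Groth.Agent.Lib.Helper19.CP
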