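import Groth.Agent.Lib.Helper19.CP.Basic

set_option autoImplicit false
set_option linter.style.haveILetI false
open Topology Polynomial

namespace Groth.Agent.Lib.Helper19.CP

section roots

lemma pow_card_le_norm_prod {ε : ℝ} (hε : 0 ≤ ε) (s : Multiset ℂ) (hs : ∀ a ∈ s, ε ≤ ‖a‖) :
    ε ^ Multiset.card s ≤ ‖s.prod‖ := by
  induction s using Multiset.induction_on with
  | empty => simp
  | cons a s ih =>
    rw [Multiset.card_cons, Multiset.prod_cons, norm_mul, pow_succ, mul_comm]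
    exact mul_le_mul (hs a (Multiset.mem_cons_self a s))
      (ih fun b hb => hs b (Multiset.mem_cons_of_mem hb)) (pow_nonneg hε _) (norm_nonneg _)

lemma exists_root_norm_lt {p : ℂ[X]} (hp : p.Monic) (hd : 0 < p.natDegree) {ε : ℝ} (hε : 0 < ε)
    (h0 : ‖p.coeff 0‖ < ε ^ p.natDegree) : ∃ r, p.IsRoot r ∧ ‖r‖ < ε := by
  by_contra! H
  have hsplit := IsAlgClosed.splits p
  have hcoeff := hsplit.coeff_zero_eq_prod_roots_of_monic hp
  have hcard : Multiset.card p.roots = p.natDegree := hsplit.natDegree_eq_card_roots.symm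
  have h1 : ε ^ p.natDegree ≤ ‖p.roots.prod‖ := by
    rw [← hcard]
    refine pow_card_le_norm_prod hε.le _ fun a ha => H a ?_
    exact (Polynomial.mem_roots hp.ne_zero).mp ha
  have h2 : ‖p.coeff 0‖ = ‖p.roots.prod‖ := by
    rw [hcoeff, norm_mul, norm_pow, norm_neg, norm_one, one_pow, one_mul]
  rw [h2] at h0
  exact absurd h0 (not_lt.mpr h1)

end roots

section lift

variable {R A : Type*} [CommRing R] [CommRing A] [Algebra ℂ R] [Algebra ℂ A] [Algebra R A]
  [IsScalarTower ℂ R A]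

/-- Restriction of a point along `R → A`. -/
noncomputable def res (ψ : A →ₐ[ℂ] ℂ) : R →ₐ[ℂ] ℂ := ψ.comp (IsScalarTower.toAlgHom ℂ R A)

@[simp] lemma res_apply (ψ : A →ₐ[ℂ] ℂ) (r : R) : res ψ r = ψ (algebraMap R A r) := rfl

lemma map_aeval (ψ : A →ₐ[ℂ] ℂ) (y : A) (p : R[X]) :
    ψ (aeval y p) = (p.map ((res ψ : R →ₐ[ℂ] ℂ) : R →+* ℂ)).eval (ψ y) := by
  rw [aeval_def, eval_map]
  exact Polynomial.hom_eval₂ p (algebraMap R A) (ψ : A →+* ℂ) y

lemma exists_algHom_ker_eq [Algebra.FiniteType ℂ A] (Q : Ideal A) [Q.IsMaximal] :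
    ∃ ψ : A →ₐ[ℂ] ℂ, RingHom.ker ψ = Q := by
  letI : Field (A ⧸ Q) := Ideal.Quotient.field Q
  haveI : Algebra.FiniteType ℂ (A ⧸ Q) :=
    Algebra.FiniteType.of_surjective (Ideal.Quotient.mkₐ ℂ Q) (Ideal.Quotient.mkₐ_surjective ℂ Q)
  haveI : Module.Finite ℂ (A ⧸ Q) := finite_of_finite_type_of_isJacobsonRing ℂ (A ⧸ Q)
  have hbij := IsAlgClosed.algebraMap_bijective_of_isIntegral (k := ℂ) (K := A ⧸ Q)
  let e : ℂ ≃ₐ[ℂ] (A ⧸ Q) := AlgEquiv.ofBijective (Algebra.ofId ℂ (A ⧸ Q)) hbij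
  refine ⟨(e.symm : (A ⧸ Q) →ₐ[ℂ] ℂ).comp (Ideal.Quotient.mkₐ ℂ Q), ?_⟩
  ext a
  rw [RingHom.mem_ker]
  change e.symm (Ideal.Quotient.mk Q a) = 0 ↔ a ∈ Q
  rw [EmbeddingLike.map_eq_zero_iff, Ideal.Quotient.eq_zero_iff_mem]

lemma exists_lift_root [IsDomain R] [IsIntegrallyClosed R] [IsDomain A] [FaithfulSMul R A]
    [Algebra.IsIntegral R A] [Algebra.FiniteType ℂ A]
    (g : A) (χ : R →ₐ[ℂ] ℂ) (r : ℂ) (hr : ((minpoly R g).map (χ : R →+* ℂ)).IsRoot r) :
    ∃ ψ : A →ₐ[ℂ] ℂ, res ψ = χ ∧ ψ g = r := by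
  let θ : R[X] →+* ℂ := Polynomial.eval₂RingHom (χ : R →+* ℂ) r
  have hθC : ∀ c : ℂ, θ (C (algebraMap ℂ R c)) = c := fun c => by simp [θ]
  have hθsurj : Function.Surjective θ := fun c => ⟨C (algebraMap ℂ R c), hθC c⟩
  haveI : (RingHom.ker θ).IsMaximal := RingHom.ker_isMaximal_of_surjective θ hθsurj
  letI : Algebra R[X] A := (Polynomial.aeval g : R[X] →ₐ[R] A).toRingHom.toAlgebra
  haveI : IsScalarTower R R[X] A := IsScalarTower.of_algebraMap_eq fun a => by
    change algebraMap R A a = Polynomial.aeval g (C a)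
    rw [Polynomial.aeval_C]
  haveI : Algebra.IsIntegral R[X] A := Algebra.IsIntegral.tower_top (R := R) (S := R[X]) (T := A)
  have hker : RingHom.ker (algebraMap R[X] A) ≤ RingHom.ker θ := by
    change RingHom.ker ((Polynomial.aeval g : R[X] →ₐ[R] A).toRingHom) ≤ _
    rw [minpoly.ker_eval (Algebra.IsIntegral.isIntegral g), Ideal.span_singleton_le_iff_mem,
      RingHom.mem_ker]
    change Polynomial.eval₂ (χ : R →+* ℂ) r (minpoly R g) = 0
    rw [Polynomial.eval₂_eq_eval_map]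
    exact hr
  obtain ⟨Q, hQmax, hQ⟩ := Ideal.exists_ideal_over_maximal_of_isIntegral (RingHom.ker θ) hker
  obtain ⟨ψ, hψ⟩ := exists_algHom_ker_eq Q
  have key : ∀ p : R[X], ψ (Polynomial.aeval g p) = θ p := by
    intro p
    have h1 : p - C (algebraMap ℂ R (θ p)) ∈ RingHom.ker θ := by
      rw [RingHom.mem_ker, map_sub, hθC, sub_self]
    rw [← hQ, Ideal.mem_comap, ← hψ, RingHom.mem_ker] at h1
    change ψ (Polynomial.aeval g (p - C (algebraMap ℂ R (θ p)))) = 0 at h1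
    rw [map_sub, map_sub, sub_eq_zero, Polynomial.aeval_C, ← IsScalarTower.algebraMap_apply,
      AlgHom.commutes] at h1
    simpa using h1
  refine ⟨ψ, ?_, ?_⟩
  · ext a
    have := key (C a)
    simpa [θ] using this
  · have := key X
    simpa [θ] using this

lemma finite_fibre [IsDomain R] [Module.Finite R A] (χ : R →ₐ[ℂ] ℂ) :
    {ψ : A →ₐ[ℂ] ℂ | res ψ = χ}.Finite := by
  obtain ⟨s, hs⟩ := (Module.Finite.fg_top : (⊤ : Submodule R A).FG)
  have hint : ∀ y : A, IsIntegral R y := fun y => Algebra.IsIntegral.isIntegral y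
  let t : (↥s → ℂ) → Prop := fun v => ∀ y : ↥s, ((minpoly R (y : A)).map (χ : R →+* ℂ)).IsRoot (v y)
  have htfin : (Set.pi Set.univ
      (fun y : ↥s => {z : ℂ | ((minpoly R (y : A)).map (χ : R →+* ℂ)).IsRoot z})).Finite := by
    refine Set.Finite.pi fun y => Polynomial.finite_setOfPred_isRoot ?_
    exact ((minpoly.monic (hint y)).map _).ne_zero
  refine Set.Finite.of_injOn (f := fun (ψ : A →ₐ[ℂ] ℂ) (y : ↥s) => ψ (y : A)) ?_ ?_ htfin
  · intro ψ hψ
    simp only [Set.mem_pi, Set.mem_univ, forall_true_left, Set.mem_ofPred_eq]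
    intro y
    have h := map_aeval (R := R) ψ (y : A) (minpoly R (y : A))
    rw [minpoly.aeval, map_zero] at h
    rw [Polynomial.IsRoot.def, ← (hψ : res ψ = χ)]
    exact h.symm
  · intro ψ hψ ψ' hψ' heq
    ext a
    have ha : a ∈ Submodule.span R (s : Set A) := hs ▸ Submodule.mem_top
    induction ha using Submodule.span_induction with
    | mem y hy => exact congrFun heq ⟨y, hy⟩
    | zero => simp
    | add x y _ _ hx hy => rw [map_add, map_add, hx, hy]
    | smul r x _ hx =>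
      rw [Algebra.smul_def, map_mul, map_mul, hx]
      congr 1
      have h1 : res ψ r = res ψ' r := by rw [(hψ : res ψ = χ), (hψ' : res ψ' = χ)]
      exact h1

end lift

end Groth.Agent.Lib.Helper19.CP
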