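import Groth.Agent.Lib.Helper19.CP.Lift

set_option autoImplicit false
set_option linter.style.haveILetI false
open Topology Polynomial

namespace Groth.Agent.Lib.Helper19.CP

attribute [local instance] top

lemma norm_lt_of_isRoot_monic {p : ℂ[X]} (hp : p.Monic) {z : ℂ} (hz : p.IsRoot z) {C : ℝ}
    (hC0 : 0 ≤ C) (hC : ∀ i < p.natDegree, ‖p.coeff i‖ ≤ C) : ‖z‖ < C + 1 := by
  have h := Polynomial.IsRoot.norm_lt_cauchyBound hp.ne_zero hz
  have h2 : p.cauchyBound ≤ (Real.toNNReal C) + 1 := by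
    unfold Polynomial.cauchyBound
    rw [hp.leadingCoeff, nnnorm_one, div_one]
    refine add_le_add_left (Finset.sup_le fun i hi => ?_) 1
    rw [← NNReal.coe_le_coe, Real.coe_toNNReal C hC0]
    exact hC i (Finset.mem_range.mp hi)
  have h3 := lt_of_lt_of_le h h2
  have h4 : ((‖z‖₊ : NNReal) : ℝ) < ((Real.toNNReal C + 1 : NNReal) : ℝ) := NNReal.coe_lt_coe.mpr h3
  rw [NNReal.coe_add, Real.coe_toNNReal C hC0] at h4
  simpa using h4

section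

variable {R A : Type*} [CommRing R] [CommRing A] [Algebra ℂ R] [Algebra ℂ A] [Algebra R A]
  [IsScalarTower ℂ R A]

lemma continuous_res : Continuous (res : (A →ₐ[ℂ] ℂ) → (R →ₐ[ℂ] ℂ)) :=
  continuous_iff.mpr fun r => continuous_eval (algebraMap R A r)

/-- Points over a set of points of `R` on which every element of `R` is bounded form a set on which
every element of an integral extension `A` is bounded. -/
lemma bounded_of_integral [Algebra.IsIntegral R A] {M₀ : Set (R →ₐ[ℂ] ℂ)}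
    (hM₀b : ∀ r : R, ∃ ρ : ℝ, ∀ χ ∈ M₀, ‖χ r‖ ≤ ρ) (a : A) :
    ∃ ρ : ℝ, ∀ ψ ∈ (res ⁻¹' M₀ : Set (A →ₐ[ℂ] ℂ)), ‖ψ a‖ ≤ ρ := by
  choose ρ hρ using hM₀b
  obtain ⟨p, hpm, hpa⟩ := Algebra.IsIntegral.isIntegral (R := R) a
  have hpa' : Polynomial.aeval a p = 0 := by rw [Polynomial.aeval_def]; exact hpa
  refine ⟨(∑ i ∈ Finset.range p.natDegree, |ρ (p.coeff i)|) + 1, fun ψ hψ => ?_⟩
  have hroot : ((p.map ((res ψ : R →ₐ[ℂ] ℂ) : R →+* ℂ))).IsRoot (ψ a) := by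
    rw [IsRoot.def, ← map_aeval, hpa', map_zero]
  have hmon := hpm.map ((res ψ : R →ₐ[ℂ] ℂ) : R →+* ℂ)
  refine le_of_lt (norm_lt_of_isRoot_monic hmon hroot
    (Finset.sum_nonneg fun i _ => abs_nonneg _) fun i hi => ?_)
  rw [hpm.natDegree_map] at hi
  rw [coeff_map]
  calc ‖((res ψ : R →ₐ[ℂ] ℂ) : R →+* ℂ) (p.coeff i)‖ ≤ ρ (p.coeff i) := hρ _ _ hψ
    _ ≤ |ρ (p.coeff i)| := le_abs_self _
    _ ≤ _ := Finset.single_le_sum (f := fun i => |ρ (p.coeff i)|)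
        (fun j _ => abs_nonneg _) (Finset.mem_range.mpr hi)

/-- A finite injective extension of a normal finitely generated `ℂ`-domain by a domain induces an
open map on `ℂ`-points (in the form: points near the image lift to nearby points). -/
theorem exists_nhd_lift [IsDomain R] [IsIntegrallyClosed R] [Algebra.FiniteType ℂ R] [IsDomain A]
    [FaithfulSMul R A] [Module.Finite R A]
    (φ : A →ₐ[ℂ] ℂ) {N : Set (A →ₐ[ℂ] ℂ)} (hN : N ∈ 𝓝 φ) :
    ∃ M ∈ 𝓝 (res φ : R →ₐ[ℂ] ℂ), ∀ χ ∈ M, ∃ ψ ∈ N, res ψ = χ := by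
  classical
  haveI : Algebra.FiniteType ℂ A :=
    Algebra.FiniteType.trans (inferInstance : Algebra.FiniteType ℂ R) inferInstance
  haveI := t2Space (A := R)
  set χ₀ : R →ₐ[ℂ] ℂ := res φ with hχ₀
  obtain ⟨N', hN'N, hN'o, hφN'⟩ := mem_nhds_iff.mp hN
  obtain ⟨M₀, hM₀c, hM₀n, hM₀b⟩ := exists_closed_nhd_bounded χ₀
  let P : Set (A →ₐ[ℂ] ℂ) := res ⁻¹' M₀
  have hPc : IsClosed P := hM₀c.preimage continuous_res
  have hPb : ∀ a : A, ∃ ρ : ℝ, ∀ ψ ∈ P, ‖ψ a‖ ≤ ρ := bounded_of_integral hM₀b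
  -- the fibre and the separating function
  have hfin := finite_fibre (A := A) χ₀
  have hex : ∀ ψ : A →ₐ[ℂ] ℂ, ψ ≠ φ → ∃ a, ψ a ≠ φ a := fun ψ hψ => by
    by_contra! H
    exact hψ (AlgHom.ext H)
  choose! a ha using hex
  let S : Finset (A →ₐ[ℂ] ℂ) := hfin.toFinset.erase φ
  let e : A := ∏ ψ ∈ S, (a ψ - algebraMap ℂ A (ψ (a ψ)))
  let g : A := e - algebraMap ℂ A (φ e)
  have hφg : φ g = 0 := by simp [g]
  have hφe : φ e ≠ 0 := by
    simp only [e, map_prod, map_sub, AlgHom.commutes, Algebra.algebraMap_self, RingHom.id_apply]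
    refine Finset.prod_ne_zero_iff.mpr fun ψ hψ =>
      sub_ne_zero.mpr (Ne.symm (ha ψ (Finset.ne_of_mem_erase hψ)))
  have hψg : ∀ ψ : A →ₐ[ℂ] ℂ, res ψ = χ₀ → ψ g = 0 → ψ = φ := by
    intro ψ hψ h0
    by_contra hne
    have hmem : ψ ∈ S := Finset.mem_erase.mpr ⟨hne, hfin.mem_toFinset.mpr hψ⟩
    have h1 : ψ e = 0 := by
      simp only [e, map_prod]
      exact Finset.prod_eq_zero hmem (by simp)
    have h2 : ψ g = - φ e := by simp [g, h1]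
    rw [h2, neg_eq_zero] at h0
    exact hφe h0
  -- the tube argument
  let C : Set (A →ₐ[ℂ] ℂ) := P \ N'
  have hCc : IsCompact C := (isCompact_of_bounded hPc hPb).diff hN'o
  let Φ : (A →ₐ[ℂ] ℂ) → (R →ₐ[ℂ] ℂ) × ℂ := fun ψ => (res ψ, ψ g)
  have hΦc : Continuous Φ := continuous_res.prodMk (continuous_eval g)
  have hΦC : IsClosed (Φ '' C) := (hCc.image hΦc).isClosed
  have hnot : (χ₀, (0 : ℂ)) ∉ Φ '' C := by
    rintro ⟨ψ, ⟨hψP, hψN⟩, hψ⟩
    have h1 : res ψ = χ₀ := congrArg Prod.fst hψ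
    have h2 : ψ g = 0 := congrArg Prod.snd hψ
    exact hψN (hψg ψ h1 h2 ▸ hφN')
  have hnhd : (Φ '' C)ᶜ ∈ 𝓝 (χ₀, (0 : ℂ)) := hΦC.isOpen_compl.mem_nhds hnot
  obtain ⟨M₁, hM₁, V, hV, hMV⟩ := mem_nhds_prod_iff.mp hnhd
  obtain ⟨ε, hε, hεV⟩ := Metric.mem_nhds_iff.mp hV
  -- the minimal polynomial of the separating function
  have hgint : IsIntegral R g := Algebra.IsIntegral.isIntegral g
  have hFm : (minpoly R g).Monic := minpoly.monic hgint
  have hFd : 0 < (minpoly R g).natDegree := minpoly.natDegree_pos hgint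
  have hc0 : χ₀ ((minpoly R g).coeff 0) = 0 := by
    have h := map_aeval (R := R) φ g (minpoly R g)
    rw [minpoly.aeval, map_zero, hφg, ← coeff_zero_eq_eval_zero, coeff_map] at h
    exact h.symm
  let M₂ : Set (R →ₐ[ℂ] ℂ) := {χ | ‖χ ((minpoly R g).coeff 0)‖ < ε ^ (minpoly R g).natDegree}
  have hM₂ : M₂ ∈ 𝓝 χ₀ :=
    (isOpen_lt (continuous_eval ((minpoly R g).coeff 0)).norm continuous_const).mem_nhds
      (by simp only [Set.mem_ofPred_eq, hc0, norm_zero]; exact pow_pos hε _)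
  refine ⟨M₀ ∩ M₁ ∩ M₂, Filter.inter_mem (Filter.inter_mem hM₀n hM₁) hM₂, ?_⟩
  rintro χ ⟨⟨hχ0, hχ1⟩, hχ2⟩
  have hmon := hFm.map (χ : R →+* ℂ)
  obtain ⟨r, hr, hrε⟩ := exists_root_norm_lt hmon (by rwa [hFm.natDegree_map]) hε
    (by rw [hFm.natDegree_map, coeff_map]; exact hχ2)
  obtain ⟨ψ, hψ, hψg'⟩ := exists_lift_root g χ r hr
  refine ⟨ψ, hN'N ?_, hψ⟩
  by_contra hψN
  have hψC : ψ ∈ C := ⟨by change res ψ ∈ M₀; rw [hψ]; exact hχ0, hψN⟩
  have hmem : Φ ψ ∈ (Φ '' C)ᶜ :=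
    hMV (Set.mk_mem_prod (by rw [hψ]; exact hχ1) (hεV (by rw [hψg']; simpa using hrε)))
  exact hmem ⟨ψ, hψC, rfl⟩

end

end Groth.Agent.Lib.Helper19.CP
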